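/-
Witt bases for the standard hermitian form, the matrix of an element of `SU` in a Witt basis,
the unitriangular subgroup.
-/
import Mathlib
import Cfsg.Prelude.Def_FusionSystem
import Cfsg.Agent.Lib.Classical.Herm.Unip
import Cfsg.Agent.Lib.Classical.Herm.HermOnb
import Cfsg.Agent.Lib.Fusion.SimpleCriterion3
import Cfsg.Agent.Lib.Fusion.Saturated2
import Cfsg.Agent.Lib.Basic.SylowUtil
import Cfsg.Agent.Lib.Fusion.PSLnDef

set_option autoImplicit false
set_option linter.unusedSectionVars false
set_option linter.unusedSimpArgs false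
set_option linter.unusedVariables false

namespace Cfsg.Agent.Lib.Fusion.PSU.Basis

open scoped Matrix
open Cfsg
open Cfsg.Agent.Lib.Classical.Herm.Basic Cfsg.Agent.Lib.Classical.Herm.Form
open Cfsg.Agent.Lib.Classical.Herm.GU Cfsg.Agent.Lib.Classical.Herm.SU
open Cfsg.Agent.Lib.Classical.Herm.Tv Cfsg.Agent.Lib.Classical.Herm.Comm
open Cfsg.Agent.Lib.Classical.Herm.Unip Cfsg.Agent.Lib.Classical.Herm.HermOnb

variable {F : Type*} [Field F] [Fintype F] {q n : ℕ}

local notation "⟪" x ", " y "⟫" => hermForm _ _ q x y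

/-- A Witt basis of the standard hermitian space. -/
structure WB (F : Type*) [Field F] [Fintype F] (q n : ℕ) where
  u : Fin n → Fin n → F
  form : ∀ i j, hermForm n F q (u i) (u j) = if j = Fin.rev i then 1 else 0
  expand : ∀ x : Fin n → F, x = ∑ i, hermForm n F q x (u (Fin.rev i)) • u i

/-- The form with Gram matrix the antidiagonal. -/
def revForm (n : ℕ) (q : ℕ) (x y : Fin n → F) : F := ∑ i, x i * y (Fin.rev i) ^ q

theorem revForm_isHerm (hF : Fintype.card F = q ^ 2) :
    IsHerm (F := F) q (revForm n q) := by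
  refine ⟨fun x y z => ?_, fun c x y => ?_, fun x y => ?_, fun x hx => ?_⟩
  · simp only [revForm, Pi.add_apply, add_mul, Finset.sum_add_distrib]
  · simp only [revForm, Pi.smul_apply, smul_eq_mul, mul_assoc, Finset.mul_sum]
  · simp only [revForm]
    rw [pow_q_sum hF]
    rw [← Equiv.sum_comp Fin.revPerm]
    refine Finset.sum_congr rfl fun i _ => ?_
    simp only [Fin.revPerm_apply, Fin.rev_rev, mul_pow, pow_q_pow_q hF]
    ring
  · funext i
    classical
    have h := hx (Pi.single (Fin.rev i) 1)
    simp only [revForm] at h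
    rw [Finset.sum_eq_single i] at h
    · simpa using h
    · intro b _ hb
      have : Fin.rev b ≠ Fin.rev i := fun e => hb (Fin.rev_injective e)
      simp [this, zero_pow_q hF]
    · simp

theorem exists_wb (hF : Fintype.card F = q ^ 2) (n : ℕ) : Nonempty (WB F q n) := by
  classical
  obtain ⟨Φ, hΦ⟩ := exists_isometry hF n (Fin n → F) (revForm n q) (revForm_isHerm hF) (by simp)
  have h1 : ∀ x y : Fin n → F, ⟪Φ.symm x, Φ.symm y⟫ = revForm n q x y := by
    intro x y
    rw [← hΦ, Φ.apply_symm_apply, Φ.apply_symm_apply]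
  have h2 : ∀ (x : Fin n → F) (i : Fin n), revForm n q x (Pi.single (Fin.rev i) 1) = x i := by
    intro x i
    simp only [revForm]
    rw [Finset.sum_eq_single i]
    · simp
    · intro b _ hb
      have : Fin.rev b ≠ Fin.rev i := fun e => hb (Fin.rev_injective e)
      simp [this, zero_pow_q hF]
    · simp
  refine ⟨⟨fun i => Φ.symm (Pi.single i 1), fun i j => ?_, fun x => ?_⟩⟩
  · rw [h1]
    have h3 := h2 (Pi.single i 1) (Fin.rev j)
    rw [Fin.rev_rev] at h3
    rw [h3]
    by_cases hij : j = Fin.rev i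
    · subst hij
      simp
    · rw [if_neg hij, Pi.single_eq_of_ne]
      intro e
      apply hij
      rw [← e, Fin.rev_rev]
  · have h3 : ∀ i, ⟪x, Φ.symm (Pi.single (Fin.rev i) 1)⟫ = Φ x i := by
      intro i
      have := h1 (Φ x) (Pi.single (Fin.rev i) 1)
      rw [Φ.symm_apply_apply, h2] at this
      exact this
    simp only [h3]
    have h4 : Φ x = ∑ i, Φ x i • (Pi.single i 1 : Fin n → F) := by
      funext l
      simp [Finset.sum_apply, Pi.single_apply]
    conv_lhs => rw [← Φ.symm_apply_apply x, h4]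
    rw [map_sum]
    simp only [map_smul]

theorem act_sum {ι : Type*} (g : SU n F q) (s : Finset ι) (f : ι → Fin n → F) :
    act g (∑ i ∈ s, f i) = ∑ i ∈ s, act g (f i) := by
  classical
  induction s using Finset.induction_on with
  | empty => simp [act_zero]
  | insert a s ha ih => rw [Finset.sum_insert ha, Finset.sum_insert ha, act_add, ih]

namespace WB

variable (W : WB F q n)

/-- The coordinates in the Witt basis. -/
def cc (i : Fin n) (x : Fin n → F) : F := ⟪x, W.u (Fin.rev i)⟫

theorem cc_def (i : Fin n) (x : Fin n → F) : W.cc i x = ⟪x, W.u (Fin.rev i)⟫ := rfl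

theorem cc_add (i : Fin n) (x y : Fin n → F) : W.cc i (x + y) = W.cc i x + W.cc i y :=
  hermForm_add_left _ _ _ _

theorem cc_sub (i : Fin n) (x y : Fin n → F) : W.cc i (x - y) = W.cc i x - W.cc i y :=
  hermForm_sub_left _ _ _

theorem cc_neg (i : Fin n) (x : Fin n → F) : W.cc i (-x) = - W.cc i x :=
  hermForm_neg_left _ _

theorem cc_smul (i : Fin n) (c : F) (x : Fin n → F) : W.cc i (c • x) = c * W.cc i x :=
  hermForm_smul_left _ _ _ _

theorem cc_zero (i : Fin n) : W.cc i (0 : Fin n → F) = 0 :=
  hermForm_zero_left _ _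

theorem cc_sum {ι : Type*} (i : Fin n) (s : Finset ι) (f : ι → Fin n → F) :
    W.cc i (∑ l ∈ s, f l) = ∑ l ∈ s, W.cc i (f l) := by
  classical
  induction s using Finset.induction_on with
  | empty => simp [cc_zero]
  | insert a s ha ih => rw [Finset.sum_insert ha, Finset.sum_insert ha, cc_add, ih]

theorem cc_u (i j : Fin n) : W.cc i (W.u j) = if i = j then 1 else 0 := by
  rw [cc_def, W.form]
  by_cases h : i = j
  · subst h
    simp
  · have : Fin.rev i ≠ Fin.rev j := fun e => h (Fin.rev_injective e)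
    rw [if_neg this, if_neg h]

theorem form_right (x : Fin n → F) (j : Fin n) : ⟪x, W.u j⟫ = W.cc (Fin.rev j) x := by
  rw [cc_def, Fin.rev_rev]

theorem form_left (hF : Fintype.card F = q ^ 2) (x : Fin n → F) (j : Fin n) :
    ⟪W.u j, x⟫ = (W.cc (Fin.rev j) x) ^ q := by
  rw [← form_right, hermForm_pow_q hF]

theorem expand' (x : Fin n → F) : x = ∑ i, W.cc i x • W.u i := W.expand x

theorem eq_of_cc {x y : Fin n → F} (h : ∀ i, W.cc i x = W.cc i y) : x = y := by
  rw [W.expand' x, W.expand' y]
  simp only [h]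

theorem eq_zero_of_cc {x : Fin n → F} (h : ∀ i, W.cc i x = 0) : x = 0 :=
  W.eq_of_cc fun i => by rw [h, cc_zero]

theorem u_ne_zero (i : Fin n) : W.u i ≠ 0 := by
  intro h
  have := W.cc_u i i
  rw [h, cc_zero, if_pos rfl] at this
  exact zero_ne_one this

/-- The matrix of an element in the Witt basis. -/
def M (g : SU n F q) : Matrix (Fin n) (Fin n) F := fun i j => W.cc i (act g (W.u j))

theorem M_apply (g : SU n F q) (i j : Fin n) : W.M g i j = W.cc i (act g (W.u j)) := rfl

theorem act_u (g : SU n F q) (j : Fin n) : act g (W.u j) = ∑ i, W.M g i j • W.u i :=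
  W.expand' _

theorem cc_act (g : SU n F q) (i : Fin n) (x : Fin n → F) :
    W.cc i (act g x) = ∑ j, W.M g i j * W.cc j x := by
  conv_lhs => rw [W.expand' x]
  rw [act_sum, cc_sum]
  refine Finset.sum_congr rfl fun j _ => ?_
  rw [act_smul, cc_smul, M_apply]
  ring

theorem M_mul (g h : SU n F q) : W.M (g * h) = W.M g * W.M h := by
  ext i j
  rw [M_apply, act_mul, cc_act, Matrix.mul_apply]
  rfl

theorem M_one : W.M (1 : SU n F q) = 1 := by
  ext i j
  rw [M_apply, act_one, cc_u, Matrix.one_apply]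

theorem M_pow (g : SU n F q) (k : ℕ) : W.M (g ^ k) = W.M g ^ k := by
  induction k with
  | zero => simp [M_one]
  | succ k ih => rw [pow_succ, pow_succ, M_mul, ih]

theorem ext_M {g h : SU n F q} (H : W.M g = W.M h) : g = h := by
  apply ext_act
  intro x
  refine W.eq_of_cc fun i => ?_
  rw [cc_act, cc_act, H]

theorem ext_u {g h : SU n F q} (H : ∀ j, act g (W.u j) = act h (W.u j)) : g = h := by
  apply W.ext_M
  ext i j
  rw [M_apply, M_apply, H]

/-- The change of basis matrix. -/
def P : Matrix (Fin n) (Fin n) F := Matrix.of fun i j => W.u j i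

theorem P_mulVec (c : Fin n → F) : W.P *ᵥ c = ∑ j, c j • W.u j := by
  funext i
  simp [P, Matrix.mulVec, dotProduct, Finset.sum_apply, mul_comm]

theorem isUnit_P : IsUnit W.P := by
  rw [← Matrix.mulVec_injective_iff_isUnit]
  intro c d h
  have h1 : ∀ (c : Fin n → F) (i : Fin n), W.cc i (W.P *ᵥ c) = c i := by
    intro c i
    rw [P_mulVec, cc_sum]
    simp only [cc_smul, cc_u]
    simp
  funext i
  rw [← h1 c i, ← h1 d i, h]

theorem mat_mul_P (g : SU n F q) : mat g * W.P = W.P * W.M g := by
  ext i j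
  have h1 : (mat g * W.P) i j = act g (W.u j) i := by
    simp only [Matrix.mul_apply, act, Matrix.mulVec, dotProduct, P, Matrix.of_apply]
  have h2 : (W.P * W.M g) i j = (∑ l, W.M g l j • W.u l) i := by
    simp only [Matrix.mul_apply, P, Matrix.of_apply, Finset.sum_apply, Pi.smul_apply, smul_eq_mul]
    exact Finset.sum_congr rfl fun l _ => mul_comm _ _
  rw [h1, h2, ← act_u]

theorem det_M (g : SU n F q) : (W.M g).det = 1 := by
  have h := congrArg Matrix.det (W.mat_mul_P g)
  rw [Matrix.det_mul, Matrix.det_mul] at h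
  have h1 : (mat g).det = 1 := g.1.2
  have h2 : W.P.det ≠ 0 := by
    have := (Matrix.isUnit_iff_isUnit_det _).1 W.isUnit_P
    exact this.ne_zero
  rw [h1, one_mul] at h
  exact (mul_left_cancel₀ h2 (h.symm.trans (mul_one _).symm))

/-! ### Upper triangular elements -/

/-- Upper triangular for the Witt basis. -/
def IsUp (g : SU n F q) : Prop := ∀ i j, j < i → W.M g i j = 0

/-- Upper unitriangular for the Witt basis. -/
def IsU (g : SU n F q) : Prop := W.IsUp g ∧ ∀ i, W.M g i i = 1

variable {W}

theorem IsUp.mul {g h : SU n F q} (hg : W.IsUp g) (hh : W.IsUp h) : W.IsUp (g * h) := by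
  intro i j hlt
  rw [M_mul, Matrix.mul_apply]
  refine Finset.sum_eq_zero fun l _ => ?_
  by_cases hl : l < i
  · rw [hg i l hl, zero_mul]
  · rw [hh l j (lt_of_lt_of_le hlt (not_lt.1 hl)), mul_zero]

theorem IsUp.diag_mul {g h : SU n F q} (hg : W.IsUp g) (hh : W.IsUp h) (i : Fin n) :
    W.M (g * h) i i = W.M g i i * W.M h i i := by
  rw [M_mul, Matrix.mul_apply, Finset.sum_eq_single i]
  · intro l _ hl
    rcases lt_or_gt_of_ne hl with h' | h'
    · rw [hg i l h', zero_mul]
    · rw [hh l i h', mul_zero]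
  · simp

theorem isU_one : W.IsU (1 : SU n F q) := by
  constructor
  · intro i j h
    rw [M_one, Matrix.one_apply, if_neg h.ne']
  · intro i
    rw [M_one, Matrix.one_apply, if_pos rfl]

theorem IsU.mul {g h : SU n F q} (hg : W.IsU g) (hh : W.IsU h) : W.IsU (g * h) :=
  ⟨hg.1.mul hh.1, fun i => by rw [hg.1.diag_mul hh.1, hg.2, hh.2, one_mul]⟩

theorem IsUp.pow {g : SU n F q} (hg : W.IsUp g) (k : ℕ) :
    W.IsUp (g ^ k) ∧ ∀ i, W.M (g ^ k) i i = W.M g i i ^ k := by
  induction k with
  | zero =>
    refine ⟨?_, fun i => by simp [M_one]⟩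
    rw [pow_zero]
    exact isU_one.1
  | succ k ih =>
    rw [pow_succ]
    refine ⟨ih.1.mul hg, fun i => ?_⟩
    rw [IsUp.diag_mul ih.1 hg, ih.2, pow_succ]

variable (W)

/-- The product of the diagonal entries of an upper triangular element is one. -/
theorem prod_diag {g : SU n F q} (hg : W.IsUp g) : ∏ i, W.M g i i = 1 := by
  have h := W.det_M g
  rw [Matrix.det_of_isUpperTriangular] at h
  · exact h
  · intro i j hij
    exact hg i j hij

/-- The unitriangular subgroup. -/
def US (W : WB F q n) : Subgroup (SU n F q) where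
  carrier := {g | W.IsU g}
  mul_mem' := IsU.mul
  one_mem' := isU_one
  inv_mem' := by
    intro s hs
    exact Cfsg.Agent.Lib.Fusion.PSLnDef.inv_mem_of_finite
      (M := { carrier := {g : SU n F q | W.IsU g}
              mul_mem' := IsU.mul
              one_mem' := isU_one }) hs

theorem mem_US {g : SU n F q} : g ∈ W.US ↔ W.IsU g := Iff.rfl

end WB

end Cfsg.Agent.Lib.Fusion.PSU.Basis
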