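/-
The unitriangular subgroup of `SU` in a Witt basis is a Sylow subgroup, and its normalizer is upper triangular.
-/
import Mathlib
import Cfsg.Agent.Lib.Fusion.PSU.Basis

set_option autoImplicit false
set_option linter.unusedSectionVars false
set_option linter.unusedSimpArgs false
set_option linter.unusedVariables false

namespace Cfsg.Agent.Lib.Fusion.PSU.Upper

open scoped Matrix
open Cfsg
open Cfsg.Agent.Lib.Classical.Herm.Basic Cfsg.Agent.Lib.Classical.Herm.Form
open Cfsg.Agent.Lib.Classical.Herm.GU Cfsg.Agent.Lib.Classical.Herm.SU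
open Cfsg.Agent.Lib.Classical.Herm.Subfield
open Cfsg.Agent.Lib.Classical.Herm.Tv Cfsg.Agent.Lib.Classical.Herm.Comm
open Cfsg.Agent.Lib.Classical.Herm.Unip
open Cfsg.Agent.Lib.Fusion.PSU.Basis Cfsg.Agent.Lib.Fusion.PSU.Basis.WB

variable {F : Type*} [Field F] [Fintype F] {q n : ℕ} {W : WB F q n}

local notation "⟪" x ", " y "⟫" => hermForm _ _ q x y

theorem form_rev (W : WB F q n) (i : Fin n) : ⟪W.u i, W.u (Fin.rev i)⟫ = 1 := by
  rw [W.form, if_pos rfl]

theorem form_ne (W : WB F q n) {i j : Fin n} (h : j ≠ Fin.rev i) : ⟪W.u i, W.u j⟫ = 0 := by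
  rw [W.form, if_neg h]

theorem ne_rev_of_iso {W : WB F q n} {k : Fin n} (he : ⟪W.u k, W.u k⟫ = 0) : k ≠ Fin.rev k := by
  intro h
  rw [W.form, if_pos h] at he
  exact one_ne_zero he

theorem iso_of_ne (W : WB F q n) {k : Fin n} (h : k ≠ Fin.rev k) : ⟪W.u k, W.u k⟫ = 0 :=
  form_ne W h

section
variable (hF : Fintype.card F = q ^ 2)

include hF

theorem cc_act_siegel {e w : Fin n → F} {β : F} (he : ⟪e, e⟫ = 0) (hwe : ⟪w, e⟫ = 0)
    (hβ : β + β ^ q + ⟪w, w⟫ = 0) (i : Fin n) (x : Fin n → F) :
    W.cc i (act (siegel hF he hwe hβ) x) =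
      W.cc i x + ⟪x, e⟫ * W.cc i w - ⟪x, w⟫ * W.cc i e + β * ⟪x, e⟫ * W.cc i e := by
  rw [act_siegel, cc_add, cc_add, cc_sub, cc_smul, cc_smul, cc_smul]
  ring

theorem M_siegel {k : Fin n} {w : Fin n → F} {β : F} (he : ⟪W.u k, W.u k⟫ = 0)
    (hwe : ⟪w, W.u k⟫ = 0) (hβ : β + β ^ q + ⟪w, w⟫ = 0) (i j : Fin n) :
    W.M (siegel hF he hwe hβ) i j = (if i = j then 1 else 0) +
      (if k = Fin.rev j then W.cc i w else 0) - (W.cc (Fin.rev j) w) ^ q * (if i = k then 1 else 0)
      + β * (if k = Fin.rev j then 1 else 0) * (if i = k then 1 else 0) := by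
  rw [M_apply, cc_act_siegel, W.form, cc_u, cc_u, W.form_left hF]
  by_cases h : k = Fin.rev j
  · simp only [if_pos h]
    ring
  · simp only [if_neg h]
    ring

theorem isU_siegel {k : Fin n} {w : Fin n → F} {β : F} (he : ⟪W.u k, W.u k⟫ = 0)
    (hwe : ⟪w, W.u k⟫ = 0) (hβ : β + β ^ q + ⟪w, w⟫ = 0)
    (hsupp : ∀ i, Fin.rev k ≤ i → W.cc i w = 0) (hβ0 : Fin.rev k ≤ k → β = 0) :
    W.IsU (siegel hF he hwe hβ) := by
  have hk := ne_rev_of_iso he
  have hzq := zero_pow_q (q := q) hF
  have t1 : ∀ i j : Fin n, j ≤ i → (if k = Fin.rev j then W.cc i w else 0) = 0 := by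
    intro i j hij
    by_cases h : k = Fin.rev j
    · rw [if_pos h]
      apply hsupp
      rw [h, Fin.rev_rev]
      exact hij
    · rw [if_neg h]
  have t2 : ∀ i j : Fin n, j ≤ i → (W.cc (Fin.rev j) w) ^ q * (if i = k then 1 else 0) = 0 := by
    intro i j hij
    by_cases h : i = k
    · subst h
      rw [hsupp (Fin.rev j) (Fin.rev_le_rev.2 hij), hzq, zero_mul]
    · rw [if_neg h, mul_zero]
  constructor
  · intro i j hlt
    rw [M_siegel, if_neg hlt.ne', t1 i j hlt.le, t2 i j hlt.le]
    by_cases h1 : k = Fin.rev j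
    · by_cases h2 : i = k
      · have : β = 0 := hβ0 (by
          rw [h1, Fin.rev_rev]
          rw [← h1, ← h2]
          exact hlt.le)
        rw [this]
        ring
      · rw [if_neg h2]
        ring
    · rw [if_neg h1]
      ring
  · intro i
    rw [M_siegel, if_pos rfl, t1 i i le_rfl, t2 i i le_rfl]
    by_cases h1 : k = Fin.rev i
    · have h2 : i ≠ k := by
        rintro rfl
        exact hk h1
      rw [if_neg h2]
      ring
    · rw [if_neg h1]
      ring

theorem M_tv {v : Fin n → F} {c : F} (hv : ⟪v, v⟫ = 0) (hc : c + c ^ q = 0) (i j : Fin n) :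
    W.M (tv hF hv hc) i j = (if i = j then 1 else 0) +
      c * (W.cc (Fin.rev j) v) ^ q * W.cc i v := by
  rw [M_apply, act_tv, cc_add, cc_smul, cc_u, W.form_left hF]

theorem isU_tv {v : Fin n → F} {c : F} (hv : ⟪v, v⟫ = 0) (hc : c + c ^ q = 0)
    (hsupp : ∀ i : Fin n, n ≤ 2 * (i : ℕ) + 1 → W.cc i v = 0) : W.IsU (tv hF hv hc) := by
  have hzq := zero_pow_q (q := q) hF
  have t : ∀ i j : Fin n, j ≤ i → c * (W.cc (Fin.rev j) v) ^ q * W.cc i v = 0 := by
    intro i j hij
    by_cases h : n ≤ 2 * (i : ℕ) + 1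
    · rw [hsupp i h, mul_zero]
    · have h1 : (j : ℕ) ≤ i := hij
      have h2 := i.2
      rw [hsupp (Fin.rev j) (by rw [Fin.val_rev]; omega), hzq]
      ring
  constructor
  · intro i j hlt
    rw [M_tv, if_neg hlt.ne', t i j hlt.le, add_zero]
  · intro i
    rw [M_tv, if_pos rfl, t i i le_rfl, add_zero]

/-- For `k < t` there is a unitriangular element whose `k`-th row has a nonzero entry at `t`. -/
theorem exists_row {k t : Fin n} (h : k < t) :
    ∃ (x : SU n F q) (c β : F), c ≠ 0 ∧ W.IsU x ∧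
      (∀ y, W.cc k (act x y) = W.cc k y + c * W.cc t y + β * W.cc (Fin.rev k) y) ∧
      (β ≠ 0 → t < Fin.rev k) := by
  have hklt : (k : ℕ) < t := h
  have hk2 := k.2
  have ht2 := t.2
  by_cases h1 : t = Fin.rev k
  · -- a transvection
    obtain ⟨c₀, hc0, hc⟩ := exists_trace_zero hF
    have hc' : c₀ + c₀ ^ q = 0 := by rw [hc]; ring
    have hkk : k ≠ Fin.rev k := by
      intro e
      rw [← h1] at e
      exact h.ne e
    have he := iso_of_ne W hkk
    refine ⟨tv hF he hc', c₀, 0, hc0, isU_tv hF he hc' ?_, fun y => ?_, fun h => absurd rfl h⟩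
    · intro i hi
      rw [cc_u, if_neg]
      rintro rfl
      have : (t : ℕ) = n - ((i : ℕ) + 1) := by rw [h1, Fin.val_rev]
      omega
    · rw [act_tv, cc_add, cc_smul, cc_u, if_pos rfl, W.form_right, ← h1]
      ring
  by_cases h2 : k = Fin.rev k
  · -- the middle row
    have hrt : Fin.rev t ≠ t := by
      intro e
      have h3 : (k : ℕ) = n - ((k : ℕ) + 1) := by
        conv_lhs => rw [h2, Fin.val_rev]
      have h4 : (t : ℕ) = n - ((t : ℕ) + 1) := by
        conv_lhs => rw [← e, Fin.val_rev]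
      omega
    have he : ⟪W.u (Fin.rev t), W.u (Fin.rev t)⟫ = 0 := by
      apply iso_of_ne
      rw [Fin.rev_rev]
      exact hrt
    have hwe : ⟪W.u k, W.u (Fin.rev t)⟫ = 0 := by
      apply form_ne
      intro e
      exact h.ne' (Fin.rev_injective e)
    obtain ⟨β, hβ⟩ := exists_beta hF (W.u k)
    refine ⟨siegel hF he hwe hβ, 1, 0, one_ne_zero, isU_siegel hF he hwe hβ ?_ ?_, fun y => ?_,
      fun h => absurd rfl h⟩
    · intro i hi
      rw [Fin.rev_rev] at hi
      rw [cc_u, if_neg]
      rintro rfl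
      exact absurd hi (not_le.2 h)
    · intro hi
      rw [Fin.rev_rev] at hi
      exfalso
      have h3 : (k : ℕ) = n - ((k : ℕ) + 1) := by
        conv_lhs => rw [h2, Fin.val_rev]
      have h5 : (t : ℕ) ≤ (Fin.rev t : Fin n) := hi
      rw [Fin.val_rev] at h5
      omega
    · have hkrt : k ≠ Fin.rev t := by
        intro e
        have h3 : (k : ℕ) = n - ((k : ℕ) + 1) := by
          conv_lhs => rw [h2, Fin.val_rev]
        have h4 : (k : ℕ) = n - ((t : ℕ) + 1) := by
          conv_lhs => rw [e, Fin.val_rev]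
        omega
      rw [cc_act_siegel, cc_u, cc_u, if_pos rfl, if_neg hkrt, W.form_right, Fin.rev_rev]
      ring
  · -- the general case
    have he := iso_of_ne W h2
    have hwe : ⟪-(W.u (Fin.rev t)), W.u k⟫ = 0 := by
      rw [hermForm_neg_left, form_ne W, neg_zero]
      rw [Fin.rev_rev]
      exact h.ne
    by_cases h3 : t = Fin.rev t
    · obtain ⟨β, hβ⟩ := exists_beta hF (-(W.u (Fin.rev t)))
      have hlt : t < Fin.rev k := by
        have h4 : (t : ℕ) = n - ((t : ℕ) + 1) := by
          conv_lhs => rw [h3, Fin.val_rev]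
        rw [Fin.lt_def, Fin.val_rev]
        omega
      refine ⟨siegel hF he hwe hβ, 1, β, one_ne_zero, isU_siegel hF he hwe hβ ?_ ?_, fun y => ?_,
        fun _ => hlt⟩
      · intro i hi
        rw [cc_neg, cc_u, if_neg, neg_zero]
        rintro rfl
        have h5 : (Fin.rev k : ℕ) ≤ (Fin.rev t : Fin n) := hi
        rw [Fin.val_rev, Fin.val_rev] at h5
        omega
      · intro hi
        exfalso
        have h5 : (Fin.rev k : ℕ) ≤ k := hi
        have h4 : (t : ℕ) = n - ((t : ℕ) + 1) := by
          conv_lhs => rw [h3, Fin.val_rev]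
        rw [Fin.val_rev] at h5
        omega
      · have hkrt : k ≠ Fin.rev t := by
          intro e
          apply h1
          rw [e, Fin.rev_rev]
        rw [cc_act_siegel, cc_neg, cc_u, cc_u, if_pos rfl, if_neg hkrt, hermForm_neg_right hF,
          W.form_right, W.form_right, Fin.rev_rev]
        ring
    · have hww : (0 : F) + (0 : F) ^ q + ⟪-(W.u (Fin.rev t)), -(W.u (Fin.rev t))⟫ = 0 := by
        rw [hermForm_neg_left, hermForm_neg_right hF, form_ne W, zero_pow_q hF]
        · ring
        · rw [Fin.rev_rev]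
          exact fun e => h3 e.symm
      refine ⟨siegel hF he hwe hww, 1, 0, one_ne_zero, isU_siegel hF he hwe hww ?_ ?_, fun y => ?_,
        fun h => absurd rfl h⟩
      · intro i hi
        rw [cc_neg, cc_u, if_neg, neg_zero]
        rintro rfl
        have h5 : (Fin.rev k : ℕ) ≤ (Fin.rev t : Fin n) := hi
        rw [Fin.val_rev, Fin.val_rev] at h5
        omega
      · exact fun _ => rfl
      · have hkrt : k ≠ Fin.rev t := by
          intro e
          apply h1
          rw [e, Fin.rev_rev]
        rw [cc_act_siegel, cc_neg, cc_u, cc_u, if_pos rfl, if_neg hkrt, hermForm_neg_right hF,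
          W.form_right, W.form_right, Fin.rev_rev]
        ring

/-- An element conjugating the unitriangular group into itself is upper triangular. -/
theorem upper_of_normalizes {g : SU n F q} (hg : ∀ x, W.IsU x → W.IsU (g⁻¹ * x * g)) : W.IsUp g := by
  have key : ∀ b : ℕ, ∀ j : Fin n, (j : ℕ) = b → ∀ d : ℕ, ∀ i : Fin n, (n - (i : ℕ) = d) → j < i →
      W.M g i j = 0 := by
    intro b
    induction b using Nat.strong_induction_on with
    | _ b ih =>
      intro j hj d
      induction d using Nat.strong_induction_on with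
      | _ d ihd =>
        intro i hi hlt
        obtain ⟨x, c, β, hc, hx, hrow, hβ⟩ := exists_row hF (W := W) hlt
        have hU := hg x hx
        have e : x * g = g * (g⁻¹ * x * g) := by group
        have h2 := congrFun (congrFun (congrArg W.M e) j) j
        have lhs : W.M (x * g) j j = W.M g j j + c * W.M g i j + β * W.M g (Fin.rev j) j := by
          rw [M_apply, act_mul, hrow]
          rfl
        have rhs : W.M (g * (g⁻¹ * x * g)) j j = W.M g j j := by
          rw [M_mul, Matrix.mul_apply, Finset.sum_eq_single j]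
          · rw [hU.2 j, mul_one]
          · intro l _ hl
            rcases lt_or_gt_of_ne hl with h | h
            · rw [ih l (by rw [← hj]; exact h) l rfl _ j rfl h, zero_mul]
            · rw [hU.1 l j h, mul_zero]
          · simp
        rw [lhs, rhs] at h2
        have h3 : β * W.M g (Fin.rev j) j = 0 := by
          by_cases hb : β = 0
          · rw [hb, zero_mul]
          · have hlt2 := hβ hb
            rw [ihd _ (by
              have h5 : (i : ℕ) < (Fin.rev j : Fin n) := hlt2
              have h6 := (Fin.rev j : Fin n).2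
              omega) (Fin.rev j) rfl (hlt.trans hlt2), mul_zero]
        rw [h3, add_zero] at h2
        have h4 : c * W.M g i j = 0 := add_eq_left.1 h2
        exact (mul_eq_zero.1 h4).resolve_left hc
  intro i j h
  exact key _ j rfl _ i rfl h

end

/-! ### `p`-elements -/

/-- `p`-elements of `SU`. -/
def PEl (p : ℕ) {n : ℕ} (A : SU n F q) : Prop := ∃ a : ℕ, A ^ (p ^ a) = 1

theorem PEl.conj {p : ℕ} {A : SU n F q} (h : PEl p A) (g : SU n F q) : PEl p (g * A * g⁻¹) := by
  obtain ⟨a, ha⟩ := h
  exact ⟨a, by rw [conj_pow, ha]; simp⟩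

variable {p : ℕ} [hp : Fact p.Prime] [hc : CharP F p]

theorem frob_eq_one {s : F} {k : ℕ} (h : s ^ (p ^ k) = 1) : s = 1 := by
  have h5 : (s - 1) ^ (p ^ k) = 0 := by
    rw [sub_pow_char_pow, h, one_pow, sub_self]
  exact sub_eq_zero.1 (pow_eq_zero_iff (by have := hp.out.pos; positivity) |>.1 h5)

include hc in
/-- The unitriangular group is a `p`-group. -/
theorem pEl_of_isU {g : SU n F q} (hg : W.IsU g) : PEl p g := by
  classical
  set N : Matrix (Fin n) (Fin n) F := W.M g - 1 with hN
  have hNe : ∀ i j, j ≤ i → N i j = 0 := by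
    intro i j h
    rcases h.lt_or_eq with h | h
    · have hne : i ≠ j := h.ne'
      simp [hN, hg.1 i j h, Matrix.one_apply, hne]
    · subst h
      simp [hN, hg.2]
  have hpow : ∀ k (i j : Fin n), (j : ℕ) < (i : ℕ) + k → (N ^ k) i j = 0 := by
    intro k
    induction k with
    | zero =>
      intro i j h
      have hne : i ≠ j := fun e => by subst e; omega
      simp [Matrix.one_apply, hne]
    | succ k ih =>
      intro i j h
      rw [pow_succ, Matrix.mul_apply]
      refine Finset.sum_eq_zero fun l _ => ?_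
      by_cases hl : (l : ℕ) < (i : ℕ) + k
      · rw [ih i l hl, zero_mul]
      · rw [hNe l j (by rw [Fin.le_def]; omega), mul_zero]
  have h0 : N ^ (p ^ n) = 0 := by
    ext i j
    apply hpow
    have h1 := j.2
    have h2 : n < p ^ n := Nat.lt_pow_self hp.out.one_lt
    omega
  refine ⟨n, W.ext_M ?_⟩
  have e : W.M g = N + 1 := by simp [hN]
  rcases isEmpty_or_nonempty (Fin n) with hne | hne
  · exact Subsingleton.elim _ _
  rw [M_pow, M_one, e, add_pow_char_pow_of_commute (p := p) (n := n) (h := Commute.one_right N), h0]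
  simp

include hc in
theorem isPGroup_US : IsPGroup p W.US := by
  intro g
  obtain ⟨a, ha⟩ := pEl_of_isU (p := p) g.2
  exact ⟨a, Subtype.ext ha⟩

/-- A `p`-element which is upper triangular is unitriangular. -/
theorem isU_of_isUp_pEl {g : SU n F q} (hg : W.IsUp g) (h : PEl p g) : W.IsU g := by
  obtain ⟨a, ha⟩ := h
  refine ⟨hg, fun i => ?_⟩
  have h1 := (hg.pow (p ^ a)).2 i
  rw [ha, M_one, Matrix.one_apply, if_pos rfl] at h1
  exact frob_eq_one (p := p) h1.symm

include hc in
/-- The unitriangular group is a Sylow subgroup of `SU`. -/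
theorem exists_sylow (hF : Fintype.card F = q ^ 2) (W : WB F q n) :
    ∃ S : Sylow p (SU n F q), (S : Subgroup (SU n F q)) = W.US := by
  obtain ⟨P, hP⟩ := (isPGroup_US (p := p) (W := W)).exists_le_sylow
  refine ⟨P, ?_⟩
  by_contra hne
  have hlt : W.US < (P : Subgroup (SU n F q)) := lt_of_le_of_ne hP (Ne.symm hne)
  have h1 := Cfsg.Agent.Lib.Fusion.Saturated2.lt_normalizerIn P.isPGroup' hlt
  obtain ⟨x, hx, hnx⟩ := SetLike.exists_of_lt h1
  apply hnx
  have hxN : x ∈ Subgroup.normalizer ((W.US : Subgroup _) : Set (SU n F q)) := hx.2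
  have hup : W.IsUp x := upper_of_normalizes hF fun u hu => by
    have h3 := (Subgroup.mem_normalizer_iff.1 (Subgroup.inv_mem _ hxN) u).1 hu
    have h4 : x⁻¹ * u * x ∈ W.US := by simpa using h3
    exact h4
  have hpx : PEl p x := by
    obtain ⟨a, ha⟩ := P.isPGroup' ⟨x, hx.1⟩
    exact ⟨a, congrArg Subtype.val ha⟩
  exact isU_of_isUp_pEl hup hpx

end Cfsg.Agent.Lib.Fusion.PSU.Upper
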